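import Groth.Agent.Lib.LefEt7.Clopen
import Groth.Agent.Lib.Hensel.Pair
import Groth.Agent.Lib.Hensel.Basic
import Mathlib.AlgebraicGeometry.Morphisms.Flat
import Mathlib.AlgebraicGeometry.Morphisms.Finite
import Mathlib.Algebra.Category.Ring.Constructions

/-!
# The pair of global sections of a henselian couple
-/

set_option autoImplicit false
set_option backward.isDefEq.respectTransparency false

universe u

open CategoryTheory CategoryTheory.Limits AlgebraicGeometry TopologicalSpace TensorProduct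

namespace GrothLib.HensCouple28

/-- Basic opens of idempotents are clopen. -/
theorem isClopen_basicOpen {Y : Scheme.{u}} {e : Γ(Y, ⊤)} (he : IsIdempotentElem e) :
    IsClopen (Y.basicOpen e : Set Y) := by
  have hd : Y.basicOpen e ⊓ Y.basicOpen (1 - e) = ⊥ := by
    rw [← Y.basicOpen_mul, mul_sub, mul_one, he.eq, sub_self, Scheme.basicOpen_zero]
  have hcov : ∀ x : Y, x ∈ Y.basicOpen e ∨ x ∈ Y.basicOpen (1 - e) := fun x => by
    have h1 : IsUnit (Y.presheaf.germ ⊤ x trivial e) ∨ IsUnit (Y.presheaf.germ ⊤ x trivial (1 - e)) :=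
      IsLocalRing.isUnit_or_isUnit_of_isUnit_add (by rw [← map_add, add_sub_cancel, map_one]; exact isUnit_one)
    exact h1.imp (Y.mem_basicOpen (U := ⊤) e x trivial).2 (Y.mem_basicOpen (U := ⊤) (1 - e) x trivial).2
  refine ⟨?_, (Y.basicOpen e).2⟩
  rw [show (Y.basicOpen e : Set Y) = (Y.basicOpen (1 - e) : Set Y)ᶜ from ?_]
  · exact (Y.basicOpen (1 - e)).2.isClosed_compl
  ext x
  exact ⟨fun h1 h2 => (hd.le ⟨h1, h2⟩ : x ∈ (⊥ : Y.Opens)), fun h1 => (hcov x).resolve_right h1⟩

variable {B C : Type u} [CommRing B] [CommRing C] [Algebra B C]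

/-- Global functions commute with flat affine base change. -/
theorem isPushout_appTop [Module.Flat B C] {W Y : Scheme.{u}} (h : W ⟶ Spec (CommRingCat.of B))
    [CompactSpace W] [QuasiSeparatedSpace W] (p : Y ⟶ W) (q : Y ⟶ Spec (CommRingCat.of C))
    (H : IsPullback p q h (Spec.map (CommRingCat.ofHom (algebraMap B C)))) :
    IsPushout ((Scheme.ΓSpecIso (CommRingCat.of B)).inv ≫ h.appTop)
      (CommRingCat.ofHom (algebraMap B C))
      p.appTop ((Scheme.ΓSpecIso (CommRingCat.of C)).inv ≫ q.appTop) := by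
  haveI : Flat (Spec.map (CommRingCat.ofHom (algebraMap B C))) :=
    HasRingHomProperty.Spec_iff.mpr ((RingHom.flat_algebraMap_iff).mpr inferInstance)
  have := (isIso_pushoutSection_iff H (US := ⊤) (UT := ⊤) (UX := ⊤) (UY := ⊤)
      (by simp) (by simp) (by simp)).1
    (isIso_pushoutSection_of_isQuasiSeparated_of_flat_right H (by simp) (by simp) (by simp)
      (isAffineOpen_top _) (isAffineOpen_top _) isCompact_univ isQuasiSeparated_univ)
  simp only [Scheme.Hom.appLE, Scheme.Hom.app, Scheme.Hom.appTop] at this ⊢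
  refine this.of_iso (Scheme.ΓSpecIso (CommRingCat.of B)) (Iso.refl _)
    (Scheme.ΓSpecIso (CommRingCat.of C)) (Iso.refl _) ?_ ?_ ?_ ?_
  · simp
  · simp only [homOfLE_refl, op_id]
    simp [Scheme.ΓSpecIso_naturality]
  · simp
  · simp

/-- The kernel of `C → D ⊗ C` for flat `C`. -/
theorem mem_map_of_one_tmul_eq_zero [Module.Flat B C] {D : Type u} [CommRing D] [Algebra B D] (c : C)
    (h : (1 : D) ⊗ₜ[B] c = 0) : c ∈ (RingHom.ker (algebraMap B D)).map (algebraMap B C) := by
  set J := RingHom.ker (algebraMap B D) with hJ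
  let g : B →ₗ[B] D := Algebra.linearMap B D
  let ι : J →ₗ[B] B := Submodule.subtype J
  have hex : Function.Exact ι g := fun b =>
    ⟨fun hb => ⟨⟨b, hb⟩, rfl⟩, fun ⟨j, hj⟩ => by rw [← hj]; exact j.2⟩
  have hexC := Module.Flat.rTensor_exact C hex
  obtain ⟨z, hz⟩ := (hexC ((1 : B) ⊗ₜ[B] c)).mp (by
    rw [LinearMap.rTensor_tmul]
    show algebraMap B D 1 ⊗ₜ[B] c = 0
    rw [map_one, h])
  have hz' : TensorProduct.lid B C (ι.rTensor C z) = c := by rw [hz, TensorProduct.lid_tmul, one_smul]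
  rw [← hz']
  clear hz hz' hexC
  induction z using TensorProduct.induction_on with
  | zero => rw [map_zero, map_zero]; exact zero_mem _
  | add x y hx hy => rw [map_add, map_add]; exact add_mem hx hy
  | tmul j x =>
    rw [LinearMap.rTensor_tmul, TensorProduct.lid_tmul, Algebra.smul_def]
    exact Ideal.mul_mem_right _ _ (Ideal.mem_map_of_mem _ j.2)

/-- The kernel of the pulled back restriction map. -/
theorem mem_map_of_inr_eq_zero [Module.Flat B C] {D P : CommRingCat.{u}} {f : CommRingCat.of B ⟶ D}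
    {inl : D ⟶ P} {inr : CommRingCat.of C ⟶ P}
    (H : IsPushout f (CommRingCat.ofHom (algebraMap B C)) inl inr) (c : C) (hc : inr c = 0) :
    c ∈ (RingHom.ker f.hom).map (algebraMap B C) := by
  letI : Algebra B D := f.hom.toAlgebra
  have H' : IsPushout (CommRingCat.ofHom (algebraMap B D)) (CommRingCat.ofHom (algebraMap B C))
      inl inr := H
  have HT : IsPushout (CommRingCat.ofHom (algebraMap B D)) (CommRingCat.ofHom (algebraMap B C))
      (CommRingCat.ofHom (S := D ⊗[B] C) Algebra.TensorProduct.includeLeftRingHom)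
      (CommRingCat.ofHom (S := D ⊗[B] C) Algebra.TensorProduct.includeRight.toRingHom) :=
    CommRingCat.isPushout_tensorProduct B D C
  let e : CommRingCat.of (D ⊗[B] C) ≅ P := HT.isoIsPushout _ _ H'
  have he : e.hom (((1 : D) ⊗ₜ[B] c : D ⊗[B] C)) = inr c :=
    ConcreteCategory.congr_hom (IsPushout.inr_isoIsPushout_hom _ _ HT H') c
  refine mem_map_of_one_tmul_eq_zero c ?_
  exact (ConcreteCategory.bijective_of_isIso e.hom).1 (he.trans (hc.trans (map_zero _).symm))

/-- The global functions of a henselian couple form a henselian pair. -/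
theorem henselianRing {X X₀ : Scheme.{u}} (i : X₀ ⟶ X) [IsClosedImmersion i] [CompactSpace X]
    [QuasiSeparatedSpace X]
    (hX : ∀ (Y : Scheme.{u}) (g : Y ⟶ X), IsFinite g →
      ∀ V : Set ↥(pullback g i), IsClopen V →
        ∃! U : Set ↥Y, IsClopen U ∧ (pullback.fst g i).base ⁻¹' U = V) :
    HenselianRing (Γ(X, ⊤) : Type u) (RingHom.ker i.appTop.hom) := by
  set J := RingHom.ker i.appTop.hom with hJdef
  haveI : CompactSpace X₀ := QuasiCompact.compactSpace_of_compactSpace i
  haveI : QuasiSeparatedSpace X₀ := quasiSeparatedSpace_of_quasiSeparated i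
  have hjac : J ≤ Ideal.jacobson ⊥ := by
    refine GrothLib.Hensel.le_jacobson_of_forall_isUnit_one_add fun a ha => ?_
    set π := Ideal.Quotient.mk (Ideal.span {(1 + a : Γ(X, ⊤))}) with hπ
    haveI : IsClosedImmersion (Spec.map (CommRingCat.ofHom π)) :=
      IsClosedImmersion.spec_of_surjective _ Ideal.Quotient.mk_surjective
    let p := pullback.fst X.toSpecΓ (Spec.map (CommRingCat.ofHom π))
    have hp : Set.range p.base = (X.basicOpen (1 + a) : Set X)ᶜ := by
      rw [Scheme.Pullback.range_fst, ← Scheme.toSpecΓ_preimage_basicOpen]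
      have : Set.range (Spec.map (CommRingCat.ofHom π)).base =
          ((PrimeSpectrum.basicOpen (1 + a : Γ(X, ⊤))) : Set (PrimeSpectrum Γ(X, ⊤)))ᶜ := by
        rw [PrimeSpectrum.basicOpen_eq_zeroLocus_compl, compl_compl]
        exact (range_comap_of_surjective _ π Ideal.Quotient.mk_surjective).trans
          (by rw [hπ, Ideal.mk_ker, PrimeSpectrum.zeroLocus_span])
      exact (congrArg (fun s => X.toSpecΓ.base ⁻¹' s) this).trans rfl
    have hempty : IsEmpty ↥(pullback p i) := ⟨fun z => by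
      have h1 : p.base ((pullback.fst p i).base z) ∈ (X.basicOpen (1 + a) : Set X)ᶜ :=
        hp ▸ ⟨_, rfl⟩
      refine h1 ?_
      rw [← Scheme.Hom.comp_apply, pullback.condition, Scheme.Hom.comp_apply]
      show (pullback.snd p i).base z ∈ i ⁻¹ᵁ X.basicOpen (1 + a)
      rw [GrothLib.LefEt7.preimage_basicOpen_top, map_add, map_one,
        (RingHom.mem_ker.mp ha : i.appTop a = 0), add_zero, Scheme.basicOpen_one]
      trivial⟩
    haveI : IsFinite p := inferInstance
    obtain ⟨U, -, huniq⟩ := hX _ p inferInstance ∅ isClopen_empty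
    have h1 := huniq ∅ ⟨isClopen_empty, Set.preimage_empty⟩
    have h2 := huniq Set.univ ⟨isClopen_univ, Set.eq_empty_of_isEmpty _⟩
    have hr : Set.range p.base = ∅ := by
      rw [← Set.image_univ, h2.trans h1.symm, Set.image_empty]
    rw [hp, Set.compl_empty_iff] at hr
    refine X.toRingedSpace.isUnit_of_isUnit_germ ⊤ _ fun x _ => ?_
    exact (X.mem_basicOpen (U := ⊤) (1 + a) x trivial).1 (hr.ge (Set.mem_univ x))
  refine ⟨hjac, fun f hf a₀ h₁ h₂ =>
    GrothLib.Hensel.exists_root_of_idem_lift hjac f hf a₀ h₁ h₂ fun d hd _ _ => ?_⟩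
  haveI : Module.Finite (Γ(X, ⊤) : Type u) (AdjoinRoot f) := hf.finite_adjoinRoot
  haveI : Module.Free (Γ(X, ⊤) : Type u) (AdjoinRoot f) := hf.free_adjoinRoot
  let φ := Spec.map (CommRingCat.ofHom (algebraMap (Γ(X, ⊤) : Type u) (AdjoinRoot f)))
  haveI : IsFinite φ :=
    (IsFinite.SpecMap_iff _).mpr (RingHom.finite_algebraMap.mpr inferInstance)
  let p := pullback.fst X.toSpecΓ φ
  let q := pullback.snd X.toSpecΓ φ
  have hP : IsPullback p q X.toSpecΓ φ := IsPullback.of_hasPullback _ _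
  have hsq := isPushout_appTop (B := (Γ(X, ⊤) : Type u)) X.toSpecΓ p q hP
  let θ := (Scheme.ΓSpecIso (CommRingCat.of (AdjoinRoot f))).inv ≫ q.appTop
  haveI hθ : IsIso θ := by
    haveI : IsIso ((Scheme.ΓSpecIso (CommRingCat.of (Γ(X, ⊤) : Type u))).inv ≫ X.toSpecΓ.appTop) := by
      rw [Scheme.toSpecΓ_appTop]
      exact inferInstance
    exact hsq.isIso_inr_of_isIso
  let p₀ := pullback.fst p i
  let q₀ := pullback.snd p i
  have hP₀ : IsPullback q₀ (p₀ ≫ q) (i ≫ X.toSpecΓ) φ :=
    ((IsPullback.of_hasPullback p i).flip.paste_vert hP)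
  have hsq₀ := isPushout_appTop (B := (Γ(X, ⊤) : Type u)) (i ≫ X.toSpecΓ) q₀ (p₀ ≫ q) hP₀
  let θ₀ := (Scheme.ΓSpecIso (CommRingCat.of (AdjoinRoot f))).inv ≫ (p₀ ≫ q).appTop
  have hker : RingHom.ker ((Scheme.ΓSpecIso (CommRingCat.of (Γ(X, ⊤) : Type u))).inv ≫
      (i ≫ X.toSpecΓ).appTop).hom = J := by
    rw [hJdef]
    congr 1
    rw [Scheme.Hom.comp_appTop, Scheme.toSpecΓ_appTop]
    erw [Iso.inv_hom_id_assoc]
  have hzero : ∀ c, θ₀ c = 0 → c ∈ J.map (algebraMap (Γ(X, ⊤) : Type u) (AdjoinRoot f)) :=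
    fun c hc => hker ▸ mem_map_of_inr_eq_zero hsq₀ c hc
  have hJ0 : ∀ c ∈ J.map (algebraMap (Γ(X, ⊤) : Type u) (AdjoinRoot f)), θ₀ c = 0 := by
    suffices J.map (algebraMap (Γ(X, ⊤) : Type u) (AdjoinRoot f)) ≤ RingHom.ker θ₀.hom from
      fun c hc => this hc
    refine Ideal.map_le_iff_le_comap.mpr fun j hj => ?_
    show θ₀ (algebraMap (Γ(X, ⊤) : Type u) (AdjoinRoot f) j) = 0
    rw [← hker] at hj
    refine (congr($(hsq₀.w).hom j).symm).trans ?_
    exact (congrArg q₀.appTop.hom (RingHom.mem_ker.mp hj)).trans (map_zero _)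
  have hidem : IsIdempotentElem (θ₀ d) := by
    show θ₀ d * θ₀ d = θ₀ d
    rw [← sub_eq_zero, ← map_mul, ← map_sub]
    exact hJ0 _ hd
  obtain ⟨U, ⟨hU, hUV⟩, -⟩ := hX _ p inferInstance _ (isClopen_basicOpen hidem)
  obtain ⟨e, he, he1, -⟩ := GrothLib.FEt21.exists_indicator U hU (⊤ : (pullback X.toSpecΓ φ).Opens)
  have hid : IsIdempotentElem e := by rw [mul_sub, mul_one, sub_eq_zero] at he; exact he.symm
  obtain ⟨c, rfl⟩ := (ConcreteCategory.bijective_of_isIso θ).2 e
  have hcid : IsIdempotentElem c := (ConcreteCategory.bijective_of_isIso θ).1 (by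
    rw [map_mul]; exact hid.eq)
  refine ⟨c, hcid, hzero _ ?_⟩
  rw [map_sub, sub_eq_zero]
  refine GrothLib.LefEt7.idem_ext (hcid.map θ₀.hom) hidem ?_
  refine Opens.ext ?_
  rw [show θ₀ c = p₀.appTop (θ c) from congr($(show θ₀ = θ ≫ p₀.appTop by
    simp only [θ₀, θ, Scheme.Hom.comp_appTop, Category.assoc]).hom c),
    ← GrothLib.LefEt7.preimage_basicOpen_top, ← hUV]
  show p₀.base ⁻¹' ((pullback X.toSpecΓ φ).basicOpen (θ c) : Set _) = _
  rw [he1, Opens.coe_top, Set.inter_univ]

end GrothLib.HensCouple28
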